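import Cfsg.Agent.Characters.Core
import Cfsg.Agent.Blocks.Deflate
import Cfsg.Agent.Blocks.Knorr
import Cfsg.Agent.H145.BR.CountDefs

/-!
# Trivial constituents over a central involution, permutation characters (helper606)

* `inner_one_ne` : `χ` a character of `H`, `χ(1) = 196883`, `χ(t) = 4371`, `t` a central involution, `H / ⟨t⟩ ≅ L`, the degrees
  of `L` up to `100627` are `1, 4371, 42160, 91884, 96255`: then `(χ, 1) ≠ 0`;
* `sum_permC` : `∑ |Fix g| f g = |X| ∑_{H} f` for a transitive set.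
-/

set_option autoImplicit false

open Cfsg Subgroup
open scoped ComplexConjugate

namespace Cfsg.Agent.H606.Uniq.Fix

open Cfsg.Agent.Characters.Core
open Cfsg.Agent.H145.BR (permC)

universe u v

/-- the sums of the degrees -/
def M4 : AddSubmonoid ℕ where
  carrier := {n | ∃ b c d e : ℕ, n = 4371 * b + 42160 * c + 91884 * d + 96255 * e}
  zero_mem' := ⟨0, 0, 0, 0, rfl⟩
  add_mem' := by
    rintro _ _ ⟨b, c, d, e, rfl⟩ ⟨b', c', d', e', rfl⟩
    exact ⟨b + b', c + c', d + d', e + e', by ring⟩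

theorem mem_M4 {n : ℕ} : n ∈ M4 ↔ ∃ b c d e : ℕ, n = 4371 * b + 42160 * c + 91884 * d + 96255 * e := Iff.rfl

theorem not_mem : 100627 ∉ M4 := by
  rw [mem_M4]
  rintro ⟨b, c, d, e, h⟩
  omega

theorem inner_one_ne {H : Type u} [Group H] [Finite H] [Fintype H] {N : Subgroup H} [N.Normal] {t : H}
    (hN : ∀ n, n ∈ N ↔ n = 1 ∨ n = t) (ht : t ≠ 1) {L : Type v} [Group L] [Finite L] (e : H ⧸ N ≃* L) {χ : H → ℂ}
    (hχ : IsCharacter H χ) (h1 : χ 1 = 196883) (h2 : χ t = 4371)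
    (hlow : ∀ ψ : IrrCharacter L, (ψ : L → ℂ) ≠ 1 → charDegree (ψ : L → ℂ) ≤ 100627 →
      charDegree (ψ : L → ℂ) = 4371 ∨ charDegree (ψ : L → ℂ) = 42160 ∨ charDegree (ψ : L → ℂ) = 91884 ∨
      charDegree (ψ : L → ℂ) = 96255) : classInner χ 1 ≠ 0 := by
  classical
  have hfi : Finite (IrrCharacter H) := finite_irr
  have := Fintype.ofFinite (IrrCharacter H)
  have hfN : Fintype N := Fintype.ofFinite N
  obtain ⟨n, hn⟩ := exists_nat_comb hχ
  intro h0
  have hn1 : n ⟨1, isIrr_one⟩ = 0 := by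
    rw [hn] at h0
    have h3 := classInner_sum_nsmul_irr n ⟨1, isIrr_one⟩
    rw [show ((⟨1, isIrr_one⟩ : IrrCharacter H) : H → ℂ) = 1 from rfl] at h3
    rw [h3] at h0
    exact_mod_cast h0
  have htN : t ∈ N := (hN t).2 (Or.inr rfl)
  -- the values at `t`
  have hsum : ∀ ψ : IrrCharacter H, ∑ x : N, (ψ : H → ℂ) x = (ψ : H → ℂ) 1 + (ψ : H → ℂ) t := by
    intro ψ
    have hne : (1 : N) ≠ ⟨t, htN⟩ := fun h => ht (congrArg Subtype.val h).symm
    have huniv : (Finset.univ : Finset N) = {1, ⟨t, htN⟩} := by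
      ext x
      simp only [Finset.mem_univ, Finset.mem_insert, Finset.mem_singleton, true_iff]
      rcases (hN x).1 x.2 with h | h
      · exact Or.inl (Subtype.ext h)
      · exact Or.inr (Subtype.ext h)
    rw [huniv, Finset.sum_pair hne]
    rfl
  have key : ∀ ψ : IrrCharacter H, (ψ : H → ℂ) 1 + (ψ : H → ℂ) t = 0 ∨
      ((ψ : H → ℂ) t = (ψ : H → ℂ) 1 ∧ (ψ = ⟨1, isIrr_one⟩ ∨ (charDegree (ψ : H → ℂ) ≤ 100627 →
        charDegree (ψ : H → ℂ) ∈ M4))) := by
    intro ψ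
    by_cases hs : (ψ : H → ℂ) 1 + (ψ : H → ℂ) t = 0
    · exact Or.inl hs
    · right
      rw [← hsum] at hs
      obtain ⟨χ', hχ'⟩ := Blocks.Deflate.exists_deflation N (ψ : H → ℂ) ψ.2 hs
      have ht1 : (ψ : H → ℂ) t = (ψ : H → ℂ) 1 := by
        rw [hχ']
        exact congrArg (χ' : H ⧸ N → ℂ) (QuotientGroup.eq.2 (by rw [mul_one]; exact N.inv_mem htN))
      refine ⟨ht1, ?_⟩
      let ψL : IrrCharacter L := ⟨(χ' : H ⧸ N → ℂ) ∘ e.symm, isIrr_comp e.symm.toMonoidHom e.symm.surjective χ'.2⟩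
      have hval : (ψL : L → ℂ) 1 = (ψ : H → ℂ) 1 := by
        rw [hχ']
        show (χ' : H ⧸ N → ℂ) (e.symm 1) = (χ' : H ⧸ N → ℂ) (QuotientGroup.mk 1)
        rw [map_one]
        rfl
      have hdeg : charDegree (ψL : L → ℂ) = charDegree (ψ : H → ℂ) := by
        unfold charDegree
        rw [hval]
      by_cases h4 : (ψL : L → ℂ) = 1
      · left
        apply Subtype.ext
        show (ψ : H → ℂ) = 1
        rw [hχ']
        funext x
        have h5 := congrFun h4 (e (QuotientGroup.mk x))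
        have h6 : (ψL : L → ℂ) (e (QuotientGroup.mk x)) = (χ' : H ⧸ N → ℂ) (QuotientGroup.mk x) := by
          show (χ' : H ⧸ N → ℂ) (e.symm (e (QuotientGroup.mk x))) = _
          rw [e.symm_apply_apply]
        show (χ' : H ⧸ N → ℂ) (QuotientGroup.mk x) = 1
        rw [← h6, h5]
        rfl
      · right
        intro hle
        rw [← hdeg] at hle ⊢
        rw [mem_M4]
        rcases hlow ψL h4 hle with h | h | h | h <;> rw [h]
        · exact ⟨1, 0, 0, 0, rfl⟩
        · exact ⟨0, 1, 0, 0, rfl⟩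
        · exact ⟨0, 0, 1, 0, rfl⟩
        · exact ⟨0, 0, 0, 1, rfl⟩
  -- the part of degree 100627
  let S : Finset (IrrCharacter H) := Finset.univ.filter fun ψ => ¬ ((ψ : H → ℂ) 1 + (ψ : H → ℂ) t = 0)
  have hdeg : ∀ ψ : IrrCharacter H, (ψ : H → ℂ) 1 = (charDegree (ψ : H → ℂ) : ℂ) := fun ψ => Blocks.Knorr.charDegree_eq ψ.2
  have htot : (∑ ψ ∈ S, n ψ * charDegree (ψ : H → ℂ) : ℕ) = 100627 := by
    have h3 : χ 1 + χ t = ∑ ψ : IrrCharacter H, (n ψ : ℂ) * ((ψ : H → ℂ) 1 + (ψ : H → ℂ) t) := by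
      have e1 : ∀ x, χ x = ∑ ψ : IrrCharacter H, (n ψ : ℂ) * (ψ : H → ℂ) x := by
        intro x
        rw [hn, Finset.sum_apply]
        refine Finset.sum_congr rfl fun ψ _ => ?_
        rw [Pi.smul_apply, nsmul_eq_mul]
      rw [e1 1, e1 t, ← Finset.sum_add_distrib]
      refine Finset.sum_congr rfl fun ψ _ => ?_
      ring
    have h4 : ∑ ψ : IrrCharacter H, (n ψ : ℂ) * ((ψ : H → ℂ) 1 + (ψ : H → ℂ) t) =
        ∑ ψ ∈ S, (n ψ : ℂ) * (2 * (charDegree (ψ : H → ℂ) : ℂ)) := by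
      rw [Finset.sum_filter]
      refine Finset.sum_congr rfl fun ψ _ => ?_
      by_cases hs : (ψ : H → ℂ) 1 + (ψ : H → ℂ) t = 0
      · rw [if_neg (by rw [not_not]; exact hs), hs, mul_zero]
      · rw [if_pos hs]
        rcases key ψ with h | h
        · exact absurd h hs
        · rw [h.1, hdeg]
          ring
    have h5 : (2 : ℂ) * ((∑ ψ ∈ S, n ψ * charDegree (ψ : H → ℂ) : ℕ) : ℂ) = 2 * (100627 : ℕ) := by
      rw [h1, h2] at h3
      rw [h4] at h3
      push_cast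
      rw [Finset.mul_sum]
      calc ∑ ψ ∈ S, (2 : ℂ) * ((n ψ : ℂ) * (charDegree (ψ : H → ℂ) : ℂ)) =
          ∑ ψ ∈ S, (n ψ : ℂ) * (2 * (charDegree (ψ : H → ℂ) : ℂ)) := Finset.sum_congr rfl fun ψ _ => by ring
        _ = 196883 + 4371 := h3.symm
        _ = 2 * 100627 := by norm_num
    have h6 := mul_left_cancel₀ (two_ne_zero) h5
    exact_mod_cast h6
  apply not_mem
  rw [← htot]
  refine AddSubmonoid.sum_mem _ fun ψ hψ => ?_
  have hs : ¬ ((ψ : H → ℂ) 1 + (ψ : H → ℂ) t = 0) := (Finset.mem_filter.1 hψ).2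
  rcases Nat.eq_zero_or_pos (n ψ) with h0 | hpos
  · rw [h0, zero_mul]
    exact AddSubmonoid.zero_mem _
  · rcases key ψ with h | ⟨-, h | h⟩
    · exact absurd h hs
    · rw [h, hn1] at hpos
      exact absurd hpos (lt_irrefl 0)
    · have hle : charDegree (ψ : H → ℂ) ≤ 100627 := by
        rw [← htot]
        refine le_trans (Nat.le_mul_of_pos_left _ hpos) ?_
        exact Finset.single_le_sum (f := fun ψ : IrrCharacter H => n ψ * charDegree (ψ : H → ℂ))
          (fun _ _ => Nat.zero_le _) hψ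
      have h7 := h hle
      have h8 := AddSubmonoid.nsmul_mem M4 h7 (n ψ)
      rwa [smul_eq_mul] at h8

/-- the permutation character of a transitive set -/
theorem sum_permC {G : Type u} [Group G] [Fintype G] {X : Type v} [MulAction G X] [Finite X]
    (htr : ∀ x y : X, ∃ g : G, g • x = y) (x₀ : X) {f : G → ℂ} (hf : ∀ g x : G, f (g * x * g⁻¹) = f x) {H : Subgroup G}
    [Fintype H] (hH : ∀ g, g ∈ H ↔ g • x₀ = x₀) :
    ∑ g : G, permC G X g * f g = (Nat.card X : ℂ) * ∑ h : H, f h := by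
  classical
  have := Fintype.ofFinite X
  have h1 : ∀ g : G, permC G X g * f g = ∑ x : X, if g • x = x then f g else 0 := by
    intro g
    rw [← Finset.sum_filter, Finset.sum_const, nsmul_eq_mul]
    congr 1
    unfold permC
    rw [Nat.card_eq_fintype_card, ← Fintype.card_subtype]
    congr 1
  simp only [h1]
  rw [Finset.sum_comm]
  have h2 : ∀ x : X, (∑ g : G, if g • x = x then f g else 0) = ∑ h : H, f h := by
    intro x
    obtain ⟨a, rfl⟩ := htr x₀ x
    rw [← Finset.sum_filter]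
    symm
    refine Finset.sum_bij (fun (h : H) _ => a * h * a⁻¹) ?_ ?_ ?_ ?_
    · intro h _
      rw [Finset.mem_filter]
      refine ⟨Finset.mem_univ _, ?_⟩
      rw [mul_smul, mul_smul, inv_smul_smul, (hH _).1 h.2]
    · intro h _ h' _ hh
      exact Subtype.ext (mul_left_cancel (mul_right_cancel hh))
    · intro g hg
      rw [Finset.mem_filter] at hg
      refine ⟨⟨a⁻¹ * g * a, (hH _).2 ?_⟩, Finset.mem_univ _, ?_⟩
      · rw [mul_smul, mul_smul, hg.2, inv_smul_smul]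
      · show a * (a⁻¹ * g * a) * a⁻¹ = g
        group
    · intro h _
      rw [hf]
  rw [Finset.sum_congr rfl fun x _ => h2 x, Finset.sum_const, Finset.card_univ, nsmul_eq_mul, Nat.card_eq_fintype_card]

end Cfsg.Agent.H606.Uniq.Fix
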