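import Cfsg.Agent.H606.Uniq.BLow
import Cfsg.Agent.H606.Uniq.Fix
import Cfsg.Agent.H606.OreM.Small
import Cfsg.Agent.H570.Ore.RowB
import Cfsg.Agent.H740.RatM.Perm
import Cfsg.Agent.H979.OddB

/-!
# The Monster has only one irreducible character of degree 196883 (helper606)

`uniq` : two irreducible characters of degree `196883` are equal. On `C(t)`, `t ∈ 2A`, the part where `t` is `1` has degree
`100627`, which is not a sum of degrees `4371, 42160, 91884, 96255` of the Baby Monster, so it contains the trivial character;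
`H740.RatM.permC_axes` : the permutation character on `2A` contains only one character of degree `196883`.
-/

set_option autoImplicit false
set_option maxRecDepth 100000

open Cfsg Subgroup
open scoped ComplexConjugate

namespace Cfsg.Agent.H606.Uniq.Main

open Cfsg.Agent.BpSpor.MBigModel
open Cfsg.Agent.LThreeB.Row (TA)
open Cfsg.Agent.Characters.Core
open Cfsg.Agent.H606.OreM
open Cfsg.Agent.H455.OreM.Deg19 (Loc)
open Cfsg.Agent.H715.Mon.Grp (SThree)
open Cfsg.Agent.H145.BR (permC)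
open Cfsg.Agent.H816.MSch (XT b0)
open Cfsg.Agent.MonsterX Cfsg.Agent.MonsterX.MainPack Cfsg.Agent.MonsterN

/-- the value at `2A` -/
theorem value_ta (L : Loc) (χ : IrrCharacter MG) (hd : charDegree (χ : MG → ℂ) = 196883) {t : MG} (ht : TA t) :
    (χ : MG → ℂ) t = 4371 := by
  obtain ⟨a, b, c, e, h1, h2, h3⟩ := values χ ht
  have hz := zbound L.c41 χ h3
  rw [hd] at h1 hz
  have hc : c = 0 := by omega
  have he : e = 0 := by omega
  have hb : b ≤ 1 := by omega
  subst hc he
  rcases Nat.le_one_iff_eq_zero_or_eq_one.1 hb with rfl | rfl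
  · have ha : a = 196883 := by omega
    subst ha
    norm_num at hz
  · have ha : a = 299 := by omega
    subst ha
    rw [h2]
    norm_num

/-- `C(t)` is the stabilizer of an axis. -/
theorem exists_axis {t : MG} (ht : TA t) : ∃ x₀ : XT, ∀ k : MG, k ∈ centralizer ({t} : Set MG) ↔ k • x₀ = x₀ := by
  obtain ⟨g, hg⟩ := isConj_iff.1 (show IsConj (tG LitFin.all.hG LitFin.all.hR) t from ht)
  refine ⟨g • b0, fun k => ?_⟩
  have h1 := MainTrans.comm_iff LitFin.all.hG LitFin.all.hR LitFin.all.hL LitFin.all.hO LitFin.all.hT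
    (g := ((g⁻¹ * k * g : MG) : _ ≃ₗ[ℚ] _)) (g⁻¹ * k * g : MG).2
  have h2 : k ∈ centralizer ({t} : Set MG) ↔
      (g⁻¹ * k * g) * tG LitFin.all.hG LitFin.all.hR = tG LitFin.all.hG LitFin.all.hR * (g⁻¹ * k * g) := by
    rw [mem_centralizer_singleton_iff, ← hg]
    constructor
    · intro h
      have h3 := congrArg (fun u => g⁻¹ * u * g) h
      calc (g⁻¹ * k * g) * tG LitFin.all.hG LitFin.all.hR =
          g⁻¹ * (k * (g * tG LitFin.all.hG LitFin.all.hR * g⁻¹)) * g := by group
        _ = g⁻¹ * ((g * tG LitFin.all.hG LitFin.all.hR * g⁻¹) * k) * g := h3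
        _ = _ := by group
    · intro h
      have h3 := congrArg (fun u => g * u * g⁻¹) h
      calc k * (g * tG LitFin.all.hG LitFin.all.hR * g⁻¹) =
          g * (g⁻¹ * k * g * tG LitFin.all.hG LitFin.all.hR) * g⁻¹ := by group
        _ = g * (tG LitFin.all.hG LitFin.all.hR * (g⁻¹ * k * g)) * g⁻¹ := h3
        _ = _ := by group
  rw [h2]
  have h4 : (g⁻¹ * k * g) * tG LitFin.all.hG LitFin.all.hR = tG LitFin.all.hG LitFin.all.hR * (g⁻¹ * k * g) ↔
      (g⁻¹ * k * g) • b0 = b0 := by
    rw [Subtype.ext_iff, Subtype.ext_iff]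
    exact h1
  rw [h4, mul_smul, mul_smul, inv_smul_eq_iff]

theorem exists_uniq (L : Loc) (h3 : SThree.{0}) :
    ∃ χ₀ : IrrCharacter MG, ∀ χ : IrrCharacter MG, charDegree (χ : MG → ℂ) = 196883 → χ = χ₀ := by
  classical
  have hfin := finMG
  have := Fintype.ofFinite MG
  obtain ⟨ch, hch1, -, hch⟩ := Cfsg.Agent.H740.RatM.permC_axes
  refine ⟨ch 0, fun χ hχ => ?_⟩
  have hsB := Cfsg.Agent.H570.Ore.RowB.simple
  obtain ⟨t, ht, h2, ⟨e⟩⟩ := Cfsg.Agent.H979.OddB.exists_cover Cfsg.Agent.H570.Ore.RowB.isoB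
  obtain ⟨x₀, hx₀⟩ := exists_axis ht
  have hot : orderOf t = 2 := Cfsg.Agent.H58.Cop.MLow.orderOf_ta ht
  set H : Subgroup MG := centralizer ({t} : Set MG) with hH
  have := Fintype.ofFinite ↥H
  have htH : t ∈ H := mem_centralizer_singleton_iff.2 rfl
  have htc : (⟨t, htH⟩ : H) ∈ center ↥H := by
    rw [mem_center_iff]
    intro g
    exact Subtype.ext (mem_centralizer_singleton_iff.1 g.2)
  have htne : (⟨t, htH⟩ : H) ≠ 1 := by
    intro h
    have h1 : t = 1 := congrArg Subtype.val h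
    rw [h1, orderOf_one] at hot
    norm_num at hot
  have hN : ∀ n : H, n ∈ center ↥H ↔ n = 1 ∨ n = ⟨t, htH⟩ := by
    intro n
    constructor
    · intro hn
      rw [Nat.card_eq_two_iff' (1 : center ↥H)] at h2
      by_cases hn1 : n = 1
      · exact Or.inl hn1
      · right
        have h5 := h2.unique (y₁ := ⟨n, hn⟩) (y₂ := ⟨⟨t, htH⟩, htc⟩)
          (fun h => hn1 (congrArg Subtype.val h)) (fun h => htne (congrArg Subtype.val h))
        exact congrArg Subtype.val h5
    · rintro (rfl | rfl)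
      · exact (center ↥H).one_mem
      · exact htc
  have hdeg1 : (χ : MG → ℂ) 1 = 196883 := by
    rw [Blocks.Knorr.charDegree_eq χ.2, hχ]
    norm_num
  have hres := Fix.inner_one_ne hN htne e (χ := fun h : H => (χ : MG → ℂ) h)
    (isCharacter_comp H.subtype (isIrr_isCharacter χ.2)) hdeg1 (value_ta L χ hχ ht)
    (fun ψ hψ hle => BLow.low (Cfsg.Agent.H570.Ore.RowB.dt h3) ψ hψ hle)
  have hsum := Fix.sum_permC (G := MG) (X := XT) Cfsg.Agent.H816.MSch.c_trans x₀ (f := fun g => conj ((χ : MG → ℂ) g))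
    (by
      intro g x
      show conj ((χ : MG → ℂ) (g * x * g⁻¹)) = conj ((χ : MG → ℂ) x)
      rw [isIrr_isClassFunction χ.2]) hx₀
  have hne : classInner (permC MG XT) (χ : MG → ℂ) ≠ 0 := by
    rw [classInner_def]
    have h5 : (Nat.card XT : ℂ) ≠ 0 := by
      rw [Cfsg.Agent.H816.MSch.card_XT]
      norm_num
    refine mul_ne_zero (inv_ne_zero card_ne_zero_complex) ?_
    rw [hsum]
    refine mul_ne_zero h5 ?_
    intro h6
    apply hres
    rw [classInner_def]
    have h7 : ∑ h : H, (χ : MG → ℂ) h * conj ((1 : H → ℂ) h) = conj (∑ h : H, conj ((χ : MG → ℂ) h)) := by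
      rw [map_sum]
      refine Finset.sum_congr rfl fun h _ => ?_
      simp
    rw [h7, h6, map_zero, mul_zero]
  have hperm : permC MG XT = fun g => (1 : MG → ℂ) g + ∑ i, (ch i : MG → ℂ) g := by
    funext g
    exact hch g
  have hperm' : permC MG XT = (1 : MG → ℂ) + ∑ i, (ch i : MG → ℂ) := by
    rw [hperm]
    funext g
    rw [Pi.add_apply, Finset.sum_apply]
  rw [hperm', classInner_add_left, classInner_sum_left] at hne
  have h1ne : classInner (1 : MG → ℂ) (χ : MG → ℂ) = 0 := by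
    refine classInner_irr_ne isIrr_one χ.2 fun h => ?_
    rw [← h] at hdeg1
    norm_num at hdeg1
  rw [h1ne, zero_add] at hne
  obtain ⟨i, -, hi⟩ := Finset.exists_ne_zero_of_sum_ne_zero hne
  have hi2 : (ch i : MG → ℂ) = (χ : MG → ℂ) := by
    by_contra h
    exact hi (classInner_irr_ne (ch i).2 χ.2 h)
  have hi3 := hch1 i
  rw [hi2, hdeg1] at hi3
  have hi4 : (196883 : ℕ) = Cfsg.Agent.H740.RatM.deg i := by exact_mod_cast hi3
  have hi5 : i = 0 := by
    revert hi4
    fin_cases i <;> simp [Cfsg.Agent.H740.RatM.deg]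
  rw [hi5] at hi2
  exact Subtype.ext hi2.symm

/-- **Only one irreducible character of degree 196883.** -/
theorem uniq (L : Loc) (h3 : SThree.{0}) (χ ψ : IrrCharacter MG) (h : charDegree (χ : MG → ℂ) = 196883)
    (h' : charDegree (ψ : MG → ℂ) = 196883) : χ = ψ := by
  obtain ⟨χ₀, h0⟩ := exists_uniq L h3
  rw [h0 χ h, h0 ψ h']

end Cfsg.Agent.H606.Uniq.Main
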